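import Groth.Prelude.Def_WittGrp
import Mathlib.AlgebraicGeometry.AffineSpace
import Mathlib.Algebra.MvPolynomial.Expand
import Mathlib.RingTheory.WittVector.Teichmuller

/-!
# Homomorphisms between Witt group schemes over a field: points, coordinates and factorisation through `R` and `V`
-/

set_option autoImplicit false

universe u

open CategoryTheory MonoidalCategory CartesianMonoidalCategory MonObj AlgebraicGeometry CategoryTheory.Limits
open WittGrp

namespace Groth.Agent.WittEndoLib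

variable {p : ℕ} [Fact p.Prime]

section General

variable {S : Scheme.{u}} {n m : ℕ} {T T' : Over S}

/-- The coordinates of a point. -/
noncomputable def cf (x : T ⟶ W p n S) (i : Fin n) : Γ(T.left, ⊤) := x.left.appTop (coord p i)

/-- The Witt vector of a point. -/
noncomputable def pv (x : T ⟶ W p n S) : TruncatedWittVector p n Γ(T.left, ⊤) := pts p T (Additive.ofMul x)

@[simp] theorem coeff_pv (x : T ⟶ W p n S) (i : Fin n) : (pv x).coeff i = cf x i := coeff_pts p T x i

theorem pv_injective {x y : T ⟶ W p n S} (h : pv x = pv y) : x = y := pts_injective p T h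

theorem cf_ext {x y : T ⟶ W p n S} (h : ∀ i, cf x i = cf y i) : x = y :=
  pv_injective (TruncatedWittVector.ext fun i => by simpa using h i)

/-- The point with given coordinates. -/
noncomputable def mkPt (v : Fin n → Γ(T.left, ⊤)) : T ⟶ W p n S :=
  (ptsMul p T).symm (Multiplicative.ofAdd (TruncatedWittVector.mk p v))

@[simp] theorem pv_mkPt (v : Fin n → Γ(T.left, ⊤)) : pv (mkPt v : T ⟶ W p n S) = TruncatedWittVector.mk p v := by
  change Multiplicative.toAdd (ptsMul p T ((ptsMul p T).symm _)) = _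
  rw [MulEquiv.apply_symm_apply, toAdd_ofAdd]

@[simp] theorem cf_mkPt (v : Fin n → Γ(T.left, ⊤)) (i : Fin n) : cf (mkPt v : T ⟶ W p n S) i = v i := by
  rw [← coeff_pv, pv_mkPt, TruncatedWittVector.coeff_mk]

theorem cf_comp (g : T' ⟶ T) (x : T ⟶ W p n S) (i : Fin n) : cf (g ≫ x) i = g.left.appTop (cf x i) := rfl

theorem pv_comp (g : T' ⟶ T) (x : T ⟶ W p n S) : pv (g ≫ x) = truncMap p n g.left.appTop.hom (pv x) := pts_comp p g x

theorem pv_mul (x y : T ⟶ W p n S) : pv (x * y) = pv x + pv y := pts_mul p T x y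

theorem pv_one : pv (1 : T ⟶ W p n S) = 0 := pts_one p T

theorem pv_pow (x : T ⟶ W p n S) (r : ℕ) : pv (x ^ r) = r • pv x := by
  induction r with
  | zero => rw [pow_zero, zero_smul, pv_one]
  | succ r ih => rw [pow_succ, succ_nsmul, pv_mul, ih]

@[simp] theorem cf_one (i : Fin n) : cf (1 : T ⟶ W p n S) i = 0 := by
  rw [← coeff_pv, pv_one, TruncatedWittVector.coeff_zero]

theorem cf_mul_zero (x y : T ⟶ W p (n + 1) S) : cf (x * y) 0 = cf x 0 + cf y 0 := by
  rw [← coeff_pv, ← coeff_pv, ← coeff_pv, pv_mul]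
  obtain ⟨X, hX⟩ := WittVector.truncate_surjective p (n + 1) _ (pv x)
  obtain ⟨Y, hY⟩ := WittVector.truncate_surjective p (n + 1) _ (pv y)
  rw [← hX, ← hY, ← map_add, WittVector.coeff_truncate, WittVector.coeff_truncate, WittVector.coeff_truncate,
    Fin.val_zero, WittVector.add_coeff_zero]

theorem cf_R (h : n ≤ m) (x : T ⟶ W p m S) (i : Fin n) : cf (x ≫ R p S h) i = cf x (Fin.castLE h i) := by
  rw [← coeff_pv, ← coeff_pv, pv, pts_R, TruncatedWittVector.coeff_truncate]; rfl

theorem cf_V (h : n ≤ m) (x : T ⟶ W p n S) (i : Fin m) :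
    cf (x ≫ V p S h) i = if hi : m - n ≤ (i : ℕ) then cf x ⟨i - (m - n), by omega⟩ else 0 := by
  rw [← coeff_pv, pv, pts_V, coeff_shift]
  split_ifs
  · exact coeff_pts p T x _
  · rfl

theorem cf_V_cancel (h : n ≤ m) {x y : T ⟶ W p n S} (e : x ≫ V p S h = y ≫ V p S h) : x = y := by
  refine cf_ext fun i => ?_
  have := congrArg (fun z => cf z ⟨(i : ℕ) + (m - n), by omega⟩) e
  simpa [cf_V] using this

theorem V_mono (h : n ≤ m) : Mono (V p S h) := ⟨fun _ _ e => cf_V_cancel h e⟩

/-- Zero padding, a section of `R`. -/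
noncomputable def sect (n m : ℕ) : W p n S ⟶ W p m S :=
  mkPt fun i : Fin m => if hi : (i : ℕ) < n then cf (𝟙 (W p n S)) ⟨i, hi⟩ else 0

theorem cf_comp_sect (x : T ⟶ W p n S) (i : Fin m) :
    cf (x ≫ sect n m) i = if hi : (i : ℕ) < n then cf x ⟨i, hi⟩ else 0 := by
  rw [cf_comp, sect, cf_mkPt]
  split_ifs
  · rw [← cf_comp, Category.comp_id]
  · exact map_zero _

@[simp] theorem sect_R (h : n ≤ m) : sect n m ≫ R p S h = 𝟙 (W p n S) := by
  refine cf_ext fun i => ?_
  rw [cf_R, ← Category.id_comp (sect n m), cf_comp_sect, dif_pos (show ((Fin.castLE h i : Fin m) : ℕ) < n from i.isLt)]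
  rfl

theorem R_cancel (h : n ≤ m) {Z : Over S} {f g : W p n S ⟶ Z} (e : R p S h ≫ f = R p S h ≫ g) : f = g := by
  simpa [← Category.assoc] using congrArg (sect n m ≫ ·) e

theorem R_R {l : ℕ} (h : n ≤ m) (h' : m ≤ l) : R p S h' ≫ R p S h = R p S (h.trans h') := by
  refine cf_ext fun i => ?_
  rw [cf_R, ← Category.id_comp (R p S h'), cf_R, ← Category.id_comp (R p S (h.trans h')), cf_R]
  rfl

theorem R_self (h : n ≤ n) : R p S h = 𝟙 (W p n S) := by
  refine cf_ext fun i => ?_
  rw [← Category.id_comp (R p S h), cf_R]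
  rfl

theorem V_V {l : ℕ} (h : n ≤ m) (h' : m ≤ l) : V p S h ≫ V p S h' = V p S (h.trans h') := by
  refine cf_ext fun i => ?_
  rw [cf_V, ← Category.id_comp (V p S (h.trans h')), cf_V]
  split_ifs with h1 h2 h2
  · rw [← Category.id_comp (V p S h), cf_V, dif_pos (by simp; omega)]
    congr 1
    exact Fin.ext (by simp; omega)
  · rw [← Category.id_comp (V p S h), cf_V, dif_neg (by simp; omega)]
  · omega
  · rfl

theorem V_self (h : n ≤ n) : V p S h = 𝟙 (W p n S) := by
  refine cf_ext fun i => ?_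
  rw [← Category.id_comp (V p S h), cf_V, dif_pos (by omega)]
  congr 1
  exact Fin.ext (by simp)

theorem V_R_comm {a b c d : ℕ} (hab : a ≤ b) (hbd : b ≤ d) (hac : a ≤ c) (hcd : c ≤ d) (he : d + a = b + c) :
    V p S hbd ≫ R p S hcd = R p S hab ≫ V p S hac := by
  refine cf_ext fun i => ?_
  rw [cf_R, ← Category.id_comp (V p S hbd), cf_V, cf_V]
  split_ifs with h1 h2 h2
  · rw [← Category.id_comp (R p S hab), cf_R]
    congr 1
    exact Fin.ext (by simp; omega)
  · simp at h1; omega
  · simp at h1; omega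
  · rfl

/-- A morphism to a group object which is multiplicative on points is a homomorphism. -/
theorem isMonHom_of_mul {G H : Over S} [GrpObj G] [GrpObj H] (f : G ⟶ H)
    (h : ∀ (T : Over S) (x y : T ⟶ G), (x * y) ≫ f = (x ≫ f) * (y ≫ f)) : IsMonHom f :=
  isMonHom_of_comp_mul f (by
    have e := h (𝟙_ (Over S)) 1 1
    rw [_root_.one_mul] at e
    exact left_eq_mul.1 e) h

/-- Composition with a homomorphism, as a monoid homomorphism on points. -/
noncomputable def post {T G H : Over S} [GrpObj G] [GrpObj H] (f : G ⟶ H) [IsMonHom f] : (T ⟶ G) →* (T ⟶ H) where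
  toFun x := x ≫ f
  map_one' := MonObj.one_comp f
  map_mul' x y := MonObj.mul_comp x y f

/-- Composition on the left, as a monoid homomorphism. -/
noncomputable def pre {T T' G : Over S} [GrpObj G] (g : T' ⟶ T) : (T ⟶ G) →* (T' ⟶ G) where
  toFun x := g ≫ x
  map_one' := MonObj.comp_one g
  map_mul' x y := MonObj.comp_mul g x y

theorem post_apply {T G H : Over S} [GrpObj G] [GrpObj H] (f : G ⟶ H) [IsMonHom f] (x : T ⟶ G) :
    post f x = x ≫ f := rfl

theorem pre_apply {T T' G : Over S} [GrpObj G] (g : T' ⟶ T) (x : T ⟶ G) : pre g x = g ≫ x := rfl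

theorem isMonHom_mul {G H : Over S} [GrpObj G] [GrpObj H] [IsCommMonObj H] (f g : G ⟶ H) [IsMonHom f] [IsMonHom g] :
    IsMonHom (f * g) :=
  isMonHom_of_mul _ fun T x y => by
    simp only [MonObj.comp_mul, MonObj.mul_comp]
    exact mul_mul_mul_comm _ _ _ _

theorem isMonHom_one {G H : Over S} [GrpObj G] [GrpObj H] : IsMonHom (1 : G ⟶ H) :=
  isMonHom_of_mul _ fun T x y => by simp only [MonObj.comp_one, _root_.one_mul]

theorem isMonHom_inv {G H : Over S} [GrpObj G] [GrpObj H] [IsCommMonObj H] (f : G ⟶ H) [IsMonHom f] :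
    IsMonHom f⁻¹ :=
  isMonHom_of_mul _ fun T x y => by
    rw [GrpObj.comp_inv, GrpObj.comp_inv, GrpObj.comp_inv, MonObj.mul_comp, mul_inv]

theorem exists_comp_V {a b N : ℕ} (ha : a ≤ N) (hb : b ≤ N) (hab : a + b = N) (z : T ⟶ W p N S)
    (hz : z ≫ R p S ha = 1) : ∃ w : T ⟶ W p b S, w ≫ V p S hb = z := by
  refine ⟨mkPt fun i => cf z ⟨(i : ℕ) + a, by omega⟩, cf_ext fun i => ?_⟩
  rw [cf_V]
  split_ifs with hi
  · rw [cf_mkPt]
    congr 1
    exact Fin.ext (by simp; omega)
  · have := congrArg (fun x => cf x ⟨(i : ℕ), by omega⟩) hz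
    simp only [cf_R, cf_one] at this
    exact this.symm

theorem V_comp_R_eq_one {a b N : ℕ} (ha : a ≤ N) (hb : b ≤ N) (hab : a + b = N) :
    V p S hb ≫ R p S ha = 1 := by
  refine cf_ext fun i => ?_
  rw [cf_R, ← Category.id_comp (V p S hb), cf_V, dif_neg (by simp; omega), cf_one]

end General

section Field

variable {k : Type u} [Field k]

local notation "K" => Spec (CommRingCat.of k)

/-- The structure ring homomorphism. -/
noncomputable def str (T : Over (Spec (CommRingCat.of k))) : k →+* Γ(T.left, ⊤) :=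
  ((Scheme.ΓSpecIso (CommRingCat.of k)).inv ≫ T.hom.appTop).hom

theorem str_comp {T T' : Over K} (g : T' ⟶ T) : g.left.appTop.hom.comp (str T) = str T' := by
  conv_rhs => rw [str, show T'.hom = g.left ≫ T.hom from (Over.w g).symm, Scheme.Hom.comp_appTop]
  rfl

variable {n m : ℕ}

/-- Evaluation of polynomials at a point. -/
noncomputable def ev {T : Over K} (x : T ⟶ W p n K) : MvPolynomial (Fin n) k →+* Γ(T.left, ⊤) :=
  MvPolynomial.eval₂Hom (str T) (cf x)

theorem appTop_ev {T T' : Over K} (g : T' ⟶ T) (x : T ⟶ W p n K) (P : MvPolynomial (Fin n) k) :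
    g.left.appTop (ev x P) = ev (g ≫ x) P := by
  change g.left.appTop.hom (ev x P) = _
  rw [ev, ev, MvPolynomial.map_eval₂Hom]
  show MvPolynomial.eval₂Hom (g.left.appTop.hom.comp (str T)) _ P = _
  rw [str_comp]
  rfl

theorem ev_id_bijective : Function.Bijective (ev (𝟙 (W p n K))) := by
  let I : Type u := ULift.{u} (Fin n)
  have h1 : Function.Bijective (AffineSpace.SpecIso I (CommRingCat.of k)).hom.appTop :=
    (Scheme.Γ.mapIso (AffineSpace.SpecIso I (CommRingCat.of k)).op).commRingCatIsoToRingEquiv.bijective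
  rw [AffineSpace.SpecIso_hom_appTop] at h1
  have h2 : Function.Bijective (MvPolynomial.eval₂Hom ((Scheme.ΓSpecIso (CommRingCat.of k)).inv ≫
      (𝔸(I; K) ↘ K).appTop).hom (AffineSpace.coord K)) := by
    have h3 := h1.comp (ConcreteCategory.bijective_of_isIso (Scheme.ΓSpecIso (CommRingCat.of (MvPolynomial I k))).inv)
    convert h3 using 1
    funext P
    simp
  have h4 := h2.comp (MvPolynomial.renameEquiv k (Equiv.ulift.symm : Fin n ≃ I)).bijective
  have key : ∀ P, ev (𝟙 (W p n K)) P = MvPolynomial.eval₂Hom ((Scheme.ΓSpecIso (CommRingCat.of k)).inv ≫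
      (𝔸(I; K) ↘ K).appTop).hom (AffineSpace.coord K) (MvPolynomial.rename Equiv.ulift.symm P) := by
    intro P
    rw [MvPolynomial.eval₂Hom_rename]
    rfl
  refine ⟨fun x y e => h4.1 ?_, fun z => (h4.2 z).imp fun P hP => (key P).trans hP⟩
  exact (key x).symm.trans (e.trans (key y))

instance : IsDomain Γ((W p n (Spec (CommRingCat.of k))).left, ⊤) :=
  MulEquiv.isDomain _ (RingEquiv.ofBijective _ (ev_id_bijective (p := p) (n := n) (k := k))).symm.toMulEquiv

theorem charP_W [CharP k p] : CharP Γ((W p n (Spec (CommRingCat.of k))).left, ⊤) p :=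
  charP_of_injective_ringHom (str (W p n K)).injective p

/-- The polynomial giving a coordinate of a morphism. -/
noncomputable def poly (f : W p n K ⟶ W p m K) (j : Fin m) : MvPolynomial (Fin n) k :=
  (RingEquiv.ofBijective _ (ev_id_bijective (p := p) (n := n) (k := k))).symm (cf f j)

theorem ev_poly (f : W p n K ⟶ W p m K) (j : Fin m) : ev (𝟙 (W p n K)) (poly f j) = cf f j :=
  (RingEquiv.ofBijective _ (ev_id_bijective (p := p) (n := n) (k := k))).apply_symm_apply _

theorem cf_comp_eq {T : Over K} (x : T ⟶ W p n K) (f : W p n K ⟶ W p m K) (j : Fin m) :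
    cf (x ≫ f) j = ev x (poly f j) := by
  rw [cf_comp, ← ev_poly f j, appTop_ev, Category.comp_id]

theorem hpK [CharP k p] : (p : Γ(Spec (CommRingCat.of k), ⊤)) = 0 := by
  rw [← map_natCast (Scheme.ΓSpecIso (CommRingCat.of k)).inv.hom p]
  simp

variable [CharP k p]

variable (p k) in
/-- Frobenius over the field. -/
noncomputable def Fr (n : ℕ) : W p n (Spec (CommRingCat.of k)) ⟶ W p n (Spec (CommRingCat.of k)) :=
  F p n _ (hpK (p := p) (k := k))

instance isMonHom_Fr : IsMonHom (Fr p k n) := isMonHom_F p _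

theorem cf_Fr {T : Over K} (x : T ⟶ W p n K) (i : Fin n) : cf (x ≫ Fr p k n) i = cf x i ^ p := by
  rw [← coeff_pv, pv, Fr, pts_F, coeff_frob]
  exact congrArg (· ^ p) (coeff_pts p T x i)

theorem Fr_cancel {f g : W p n K ⟶ W p m K} (e : Fr p k n ≫ f = Fr p k n ≫ g) : f = g := by
  refine cf_ext fun j => ?_
  have he : ev (Fr p k n) = (ev (𝟙 (W p n K))).comp (MvPolynomial.expand p).toRingHom := by
    refine MvPolynomial.ringHom_ext (fun r => ?_) fun i => ?_
    · simp [ev]
    · simp only [ev, RingHom.comp_apply, AlgHom.toRingHom_eq_coe, RingHom.coe_coe, MvPolynomial.expand_X,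
        map_pow, MvPolynomial.eval₂Hom_X']
      rw [← Category.id_comp (Fr p k n), cf_Fr]
  have h1 := congrArg (fun z => cf z j) e
  simp only [cf_comp_eq, he] at h1
  rw [← ev_poly f j, ← ev_poly g j, MvPolynomial.expand_injective (Fact.out : p.Prime).pos (ev_id_bijective.1 h1)]

variable (p k) in
/-- Iterates of Frobenius. -/
noncomputable def Fpow (n : ℕ) : ℕ → (W p n (Spec (CommRingCat.of k)) ⟶ W p n (Spec (CommRingCat.of k)))
  | 0 => 𝟙 _
  | j + 1 => Fpow n j ≫ Fr p k n

instance isMonHom_Fpow (j : ℕ) : IsMonHom (Fpow p k n j) := by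
  induction j with
  | zero => exact inferInstanceAs (IsMonHom (𝟙 _))
  | succ j ih => exact inferInstanceAs (IsMonHom (Fpow p k n j ≫ Fr p k n))

theorem cf_Fpow {T : Over K} (x : T ⟶ W p n K) (j : ℕ) (i : Fin n) :
    cf (x ≫ Fpow p k n j) i = cf x i ^ p ^ j := by
  induction j with
  | zero => simp [Fpow]
  | succ j ih => rw [Fpow, ← Category.assoc, cf_Fr, ih, ← pow_mul, pow_succ]

theorem Fpow_cancel (r : ℕ) {f g : W p n K ⟶ W p m K} (e : Fpow p k n r ≫ f = Fpow p k n r ≫ g) : f = g := by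
  induction r generalizing f g with
  | zero => simpa [Fpow] using e
  | succ r ih => exact Fr_cancel (ih (by simpa [Fpow] using e))

theorem pow_eq {a b N : ℕ} (hb : b ≤ N) (hab : a + b = N) {T : Over K} (x : T ⟶ W p N K) :
    x ^ (p ^ a) = x ≫ Fpow p k N a ≫ R p _ hb ≫ V p _ hb := by
  suffices H : (𝟙 (W p N K)) ^ (p ^ a) = Fpow p k N a ≫ R p _ hb ≫ V p _ hb by
    rw [← H, ← pre_apply, map_pow, pre_apply, Category.comp_id]
  apply pv_injective
  haveI := charP_W (p := p) (n := N) (k := k)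
  obtain ⟨X, hX⟩ := WittVector.truncate_surjective p N _ (pv (𝟙 (W p N K)))
  rw [pv_pow, ← hX]
  have h1 : pv (Fpow p k N a) = WittVector.truncate N (WittVector.frobenius^[a] X) := by
    refine TruncatedWittVector.ext fun i => ?_
    have hi := congrArg (fun z => z.coeff i) hX
    simp only [WittVector.coeff_truncate, coeff_pv] at hi
    rw [coeff_pv, WittVector.coeff_truncate, WittVector.iterate_frobenius_coeff, hi]
    simpa using cf_Fpow (𝟙 (W p N K)) a i
  rw [← Category.assoc]
  refine Eq.trans ?_ (pts_V p hb _).symm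
  rw [pts_R, show pts p _ (Additive.ofMul (Fpow p k N a)) = pv (Fpow p k N a) from rfl, h1,
    TruncatedWittVector.truncate_wittVector_truncate, shift_truncate, show N - b = a by omega,
    WittVector.iterate_verschiebung_iterate_frobenius, map_mul, map_pow, map_natCast, nsmul_eq_mul,
    Nat.cast_pow, mul_comm]

theorem pow_p_pow_eq_one {a r : ℕ} (h : a ≤ r) {T : Over K} (x : T ⟶ W p a K) : x ^ (p ^ r) = 1 := by
  obtain ⟨d, rfl⟩ := Nat.exists_eq_add_of_le h
  have h0 : x ^ (p ^ a) = 1 := by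
    rw [pow_eq (Nat.zero_le a) (Nat.add_zero a) x]
    refine cf_ext fun i => ?_
    rw [← Category.assoc, ← Category.assoc, cf_V, dif_neg (by omega), cf_one]
  rw [pow_add, pow_mul, h0, one_pow]

theorem V_comp_eq_one {a b N : ℕ} (hb : b ≤ N) (hab : a + b = N) 
    (hm : m ≤ a) (f : W p N K ⟶ W p m K) [IsMonHom f] : V p _ hb ≫ f = 1 := by
  apply R_cancel hb
  apply Fpow_cancel a
  have h1 : ((𝟙 (W p N K)) ^ (p ^ a)) ≫ f = 1 := by
    rw [← post_apply f, map_pow]; exact pow_p_pow_eq_one hm _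
  rw [pow_eq hb hab, Category.id_comp, Category.assoc, Category.assoc] at h1
  rw [h1, MonObj.comp_one, MonObj.comp_one]

/-- **Factorisation through `R`**: a homomorphism `W_N → W_m` factors through `W_a` for `m ≤ a`. -/
theorem factor_R {a N : ℕ} (ha : a ≤ N) (hm : m ≤ a) (f : W p N K ⟶ W p m K) [IsMonHom f] :
    ∃ g : W p a K ⟶ W p m K, IsMonHom g ∧ R p _ ha ≫ g = f := by
  have hV : V p K (Nat.sub_le N a) ≫ f = 1 := by
    exact V_comp_eq_one (p := p) (Nat.sub_le N a) (show a + (N - a) = N by omega) hm f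
  have key : R p K ha ≫ sect a N ≫ f = f := by
    obtain ⟨w, hw⟩ := exists_comp_V ha (Nat.sub_le N a) (show a + (N - a) = N by omega)
      (𝟙 (W p N K) * (R p K ha ≫ sect a N)⁻¹)
      (by rw [MonObj.mul_comp, GrpObj.inv_comp, Category.assoc, sect_R, Category.comp_id, Category.id_comp,
        mul_inv_cancel])
    have h1 := congrArg (· ≫ f) hw
    simp only [Category.assoc, hV, MonObj.comp_one, MonObj.mul_comp, GrpObj.inv_comp, Category.id_comp] at h1
    exact (mul_inv_eq_one.1 h1.symm).symm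
  refine ⟨sect a N ≫ f, isMonHom_of_mul _ fun T x y => ?_, key⟩
  have hxy : x * y = ((x ≫ sect a N) * (y ≫ sect a N)) ≫ R p K ha := by
    rw [MonObj.mul_comp, Category.assoc, Category.assoc, sect_R, Category.comp_id, Category.comp_id]
  rw [hxy, Category.assoc, key, MonObj.mul_comp, Category.assoc, Category.assoc]

/-- **Factorisation through `V`**: a homomorphism `W_m → W_N` factors through `W_b` for `m ≤ b`. -/
theorem factor_V {b N : ℕ} (hb : b ≤ N) (hm : m ≤ b) (f : W p m K ⟶ W p N K) [IsMonHom f] :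
    ∃ g : W p m K ⟶ W p b K, IsMonHom g ∧ g ≫ V p _ hb = f := by
  have h1 : f ^ (p ^ b) = 1 := by
    rw [← Category.id_comp f, ← post_apply f, ← map_pow, pow_p_pow_eq_one hm, map_one]
  rw [pow_eq (Nat.sub_le N b) (show b + (N - b) = N by omega) f] at h1
  have h2 : (f ≫ Fpow p k N b) ≫ R p K (Nat.sub_le N b) = 1 :=
    cf_V_cancel (Nat.sub_le N b) (by rw [Category.assoc, Category.assoc, h1, MonObj.one_comp])
  have h3 : f ≫ R p K (Nat.sub_le N b) = 1 := by
    refine cf_ext fun i => ?_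
    have := congrArg (fun z => cf z i) h2
    simp only [cf_R, cf_Fpow, cf_one] at this
    rw [cf_R, cf_one]
    exact eq_zero_of_pow_eq_zero this
  obtain ⟨g, hg⟩ := exists_comp_V (Nat.sub_le N b) hb (by omega) f h3
  refine ⟨g, isMonHom_of_mul _ fun T x y => cf_V_cancel hb ?_, hg⟩
  rw [Category.assoc, hg, MonObj.mul_comp _ _ f, MonObj.mul_comp _ _ (V p K hb), Category.assoc, Category.assoc, hg]

theorem comp_R_eq_one_of_lt {a N : ℕ} (ha : a ≤ N) (hm : a + m ≤ N) (f : W p m K ⟶ W p N K) [IsMonHom f] :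
    f ≫ R p K ha = 1 := by
  obtain ⟨g, hg, rfl⟩ := factor_V (Nat.sub_le N a) (show m ≤ N - a by omega) f
  haveI := hg
  rw [Category.assoc, V_comp_R_eq_one ha (Nat.sub_le N a) (by omega), MonObj.comp_one]

end Field

end Groth.Agent.WittEndoLib
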