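import Groth.Agent.WittEndoLib.Basic
import Mathlib.Algebra.Polynomial.Expand
import Mathlib.FieldTheory.IsAlgClosed.Basic

/-!
# Endomorphisms of Witt group schemes: scalars, additive polynomials, decomposition, lifting
-/

set_option autoImplicit false

universe u

namespace Groth.Agent.WittEndoLib

variable {p : ℕ} [Fact p.Prime]

section Additive

open Polynomial

variable {k : Type u} [Field k] [CharP k p]

set_option quotPrecheck false in
local notation "CC" => ((Polynomial.C : Polynomial k →+* Polynomial (Polynomial k)).comp (Polynomial.C : k →+* Polynomial k))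

/-- **Additive polynomials in characteristic `p`.** -/
theorem exists_coeff_of_additive (d : ℕ) : ∀ Q : Polynomial k, Q.natDegree ≤ d →
    Q.eval₂ CC (C X + X) = Q.eval₂ CC (C X) + Q.eval₂ CC X →
    ∃ (J : ℕ) (a : ℕ → k), Q = ∑ j ∈ Finset.range J, C (a j) * X ^ (p ^ j) := by
  induction d using Nat.strong_induction_on with
  | _ d ih =>
  intro Q hd hQ
  have hp := (Fact.out : p.Prime)
  have h0 : Q.coeff 0 = 0 := by
    let ε : Polynomial (Polynomial k) →+* k := (evalRingHom 0).comp (evalRingHom 0)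
    have e := congrArg ε hQ
    have hεC : ε.comp CC = RingHom.id k := RingHom.ext fun r => by simp [ε]
    rw [map_add, hom_eval₂, hom_eval₂, hom_eval₂, hεC] at e
    simpa [ε, eval₂_at_zero] using e
  have hder : derivative Q = C ((derivative Q).coeff 0) := by
    have key : ∀ t : Polynomial (Polynomial k), Q.eval₂ CC t = (Q.map C).comp t := fun t => by
      rw [Polynomial.comp, Polynomial.eval₂_map]
    rw [key, key, key] at hQ
    have e := congrArg (fun z : Polynomial (Polynomial k) => (derivative z).eval 0) hQ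
    simp only [derivative_comp, derivative_add, derivative_C, derivative_X, zero_add, one_mul, zero_mul, comp_X,
      eval_comp, eval_add, eval_C, eval_X, add_zero, derivative_map] at e
    simp only [Polynomial.eval_map, eval₂_C_X, eval₂_at_zero] at e
    exact e
  set c := (derivative Q).coeff 0 with hc
  have hder0 : derivative (Q - C c * X) = 0 := by
    simp only [derivative_sub, derivative_mul, derivative_C, derivative_X, zero_mul, zero_add, mul_one]
    rw [hder]
    exact sub_self _
  set Q₁ := contract p (Q - C c * X) with hQ₁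
  have hex : expand k p Q₁ = Q - C c * X := expand_contract p hder0 hp.ne_zero
  have hQeq : Q = C c * X + expand k p Q₁ := by rw [hex]; ring
  have hexev : ∀ t : Polynomial (Polynomial k), (expand k p Q₁).eval₂ CC t = Q₁.eval₂ CC (t ^ p) := by
    intro t
    rw [Polynomial.expand_eq_comp_X_pow, Polynomial.eval₂_comp, eval₂_X_pow]
  have hQ₁add : Q₁.eval₂ CC (C X + X) = Q₁.eval₂ CC (C X) + Q₁.eval₂ CC X := by
    let φ : Polynomial (Polynomial k) →+* Polynomial (Polynomial k) :=
      ((expand (Polynomial k) p).toRingHom).comp (mapRingHom (expand k p).toRingHom)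
    have hφ : Function.Injective φ :=
      (Polynomial.expand_injective hp.pos).comp (Polynomial.map_injective _ (Polynomial.expand_injective hp.pos))
    apply hφ
    have hφC : φ.comp CC = CC := RingHom.ext fun r => by simp [φ]
    rw [map_add, hom_eval₂, hom_eval₂, hom_eval₂, hφC, map_add]
    have e1 : φ (C X) = (C X) ^ p := by simp [φ]
    have e2 : φ X = X ^ p := by simp [φ]
    haveI : CharP (Polynomial (Polynomial k)) p := inferInstance
    rw [e1, e2, ← add_pow_char (C X : Polynomial (Polynomial k)) X p]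
    have h := hQ
    rw [hQeq] at h
    simp only [eval₂_add, eval₂_mul, eval₂_C, eval₂_X, hexev] at h
    linear_combination h
  by_cases hd1 : Q₁.natDegree = 0
  · have hq : Q₁ = 0 := by
      rw [Polynomial.eq_C_of_natDegree_eq_zero hd1] at hQ₁add ⊢
      simp only [eval₂_C, left_eq_add] at hQ₁add
      have := Polynomial.C_injective (R := Polynomial k) (hQ₁add.trans (map_zero C).symm)
      rw [this]
    refine ⟨1, fun _ => c, ?_⟩
    rw [hQeq, hq]
    simp
  · have hlt : Q₁.natDegree < d := by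
      have h1 : Q₁.natDegree * p ≤ max Q.natDegree 1 := by
        rw [← Polynomial.natDegree_expand, hex]
        refine (Polynomial.natDegree_sub_le _ _).trans (max_le_max le_rfl ?_)
        exact (Polynomial.natDegree_C_mul_le _ _).trans (by simp)
      have h2 : Q₁.natDegree * 2 ≤ Q₁.natDegree * p := Nat.mul_le_mul_left _ hp.two_le
      omega
    obtain ⟨J, a, ha⟩ := ih _ hlt Q₁ le_rfl hQ₁add
    refine ⟨J + 1, fun j => Nat.casesOn j c a, ?_⟩
    rw [Finset.sum_range_succ', hQeq, ha, map_sum, add_comm]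
    congr 1
    · refine Finset.sum_congr rfl fun j _ => ?_
      rw [map_mul, map_pow, expand_C, expand_X, ← pow_mul, pow_succ']
    · simp

end Additive

open CategoryTheory MonoidalCategory CartesianMonoidalCategory MonObj AlgebraicGeometry CategoryTheory.Limits
open WittGrp

section Endo

variable {k : Type u} [Field k] [CharP k p] {n m : ℕ}

local notation "K" => Spec (CommRingCat.of k)

/-- Multiplication by a Witt vector with constant coefficients. -/
noncomputable def mulC (c : TruncatedWittVector p n k) :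
    W p n (Spec (CommRingCat.of k)) ⟶ W p n (Spec (CommRingCat.of k)) :=
  (ptsMul p (W p n K)).symm (Multiplicative.ofAdd (truncMap p n (str (W p n K)) c * pv (𝟙 (W p n K))))

theorem pv_mulC {T : Over K} (c : TruncatedWittVector p n k) (x : T ⟶ W p n K) :
    pv (x ≫ mulC c) = truncMap p n (str T) c * pv x := by
  rw [pv_comp]
  have e : pv (mulC c) = truncMap p n (str (W p n K)) c * pv (𝟙 (W p n K)) := by
    change Multiplicative.toAdd (ptsMul p _ ((ptsMul p _).symm _)) = _
    rw [MulEquiv.apply_symm_apply, toAdd_ofAdd]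
  rw [e, map_mul, ← pv_comp, Category.comp_id, ← RingHom.comp_apply (truncMap p n x.left.appTop.hom),
    ← truncMap_comp, str_comp]

instance isMonHom_mulC (c : TruncatedWittVector p n k) : IsMonHom (mulC c) :=
  isMonHom_of_mul _ fun T x y => pv_injective (by rw [pv_mulC, pv_mul, pv_mul, pv_mulC, pv_mulC, mul_add])

theorem mulC_R (h : n ≤ m) (c : TruncatedWittVector p m k) :
    mulC c ≫ R p K h = R p K h ≫ mulC (TruncatedWittVector.truncate h c) := by
  apply pv_injective
  rw [pv_mulC, pv, pts_R, ← Category.id_comp (mulC c)]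
  change TruncatedWittVector.truncate h (pv (𝟙 _ ≫ mulC c)) = _
  rw [pv_mulC, map_mul, ← truncMap_truncateLE]
  congr 1
  conv_rhs => rw [pv, ← Category.id_comp (R p K h), pts_R]
  rfl

theorem hpk : (p : k) = 0 := CharP.cast_eq_zero k p

theorem mulC_Fr (c : TruncatedWittVector p n k) :
    mulC c ≫ Fr p k n = Fr p k n ≫ mulC (frob p n hpk c) := by
  apply pv_injective
  rw [pv_mulC, Fr, pv, pts_F, truncMap_frob p n _ (natCast_eq_zero_of_over p hpK _), ← Category.id_comp (mulC c)]
  change frob p n _ (pv (𝟙 _ ≫ mulC c)) = _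
  rw [pv_mulC, map_mul]
  congr 1
  conv_rhs => rw [pv, ← Category.id_comp (F p n _ _), pts_F]
  rfl

theorem mulC_V (h : n ≤ n + 1) (c : TruncatedWittVector p (n + 1) k) :
    mulC (frob p n hpk (TruncatedWittVector.truncate h c)) ≫ V p K h = V p K h ≫ mulC c := by
  apply pv_injective
  haveI := charP_W (p := p) (n := n) (k := k)
  have e1 : pv (V p K h) = shift p h (pv (𝟙 (W p n K))) := by
    conv_lhs => rw [pv, ← Category.id_comp (V p K h), pts_V]
    rfl
  rw [pv_mulC, e1, pv, pts_V, ← Category.id_comp (mulC (frob p n hpk _))]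
  change shift p h (pv (𝟙 _ ≫ mulC _)) = _
  rw [pv_mulC]
  obtain ⟨C, rfl⟩ := WittVector.truncate_surjective p (n + 1) k c
  obtain ⟨Y, hY⟩ := WittVector.truncate_surjective p n _ (pv (𝟙 (W p n K)))
  rw [← hY, TruncatedWittVector.truncate_wittVector_truncate,
    truncMap_frob p n hpk (natCast_eq_zero_of_over p hpK _), truncMap_truncate, truncMap_truncate, frob_truncate,
    ← map_mul, shift_truncate, shift_truncate, show n + 1 - n = 1 by omega, Function.iterate_one, mul_comm,
    WittVector.verschiebung_mul_frobenius, map_mul, mul_comm]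

variable (p) in
/-- The Teichmüller scalar. -/
noncomputable def tch (n : ℕ) (b : k) : TruncatedWittVector p n k :=
  WittVector.truncate n (WittVector.teichmuller p b)

theorem frob_tch (b : k) : frob p n hpk (tch p n b) = tch p n (b ^ p) := by
  rw [tch, frob_truncate, WittVector.frobenius_eq_map_frobenius, WittVector.map_teichmuller]
  rfl

theorem truncate_tch (h : n ≤ m) (b : k) : TruncatedWittVector.truncate h (tch p m b) = tch p n b :=
  TruncatedWittVector.truncate_wittVector_truncate h _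

theorem cf_mulC_zero {T : Over K} (c : TruncatedWittVector p (n + 1) k) (x : T ⟶ W p (n + 1) K) :
    cf (x ≫ mulC c) 0 = str T (c.coeff 0) * cf x 0 := by
  rw [← coeff_pv, pv_mulC, ← coeff_pv x]
  obtain ⟨C, rfl⟩ := WittVector.truncate_surjective p (n + 1) k c
  obtain ⟨X, hX⟩ := WittVector.truncate_surjective p (n + 1) _ (pv x)
  rw [← hX, truncMap_truncate, ← map_mul, WittVector.coeff_truncate, WittVector.coeff_truncate,
    WittVector.coeff_truncate, Fin.val_zero, WittVector.mul_coeff_zero, WittVector.map_coeff]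

theorem Fpow_R (h : n ≤ m) (j : ℕ) : Fpow p k m j ≫ R p K h = R p K h ≫ Fpow p k n j := by
  refine cf_ext fun i => ?_
  rw [cf_R, cf_Fpow, ← Category.id_comp (Fpow p k m j), cf_Fpow, ← Category.id_comp (R p K h), cf_R]

theorem Fpow_V (h : n ≤ m) (j : ℕ) : Fpow p k n j ≫ V p K h = V p K h ≫ Fpow p k m j := by
  refine cf_ext fun i => ?_
  rw [cf_V, cf_Fpow, ← Category.id_comp (V p K h), cf_V]
  split_ifs with hi
  · rw [← Category.id_comp (Fpow p k n j), cf_Fpow]
  · rw [zero_pow (pow_ne_zero _ (Fact.out : p.Prime).ne_zero)]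

theorem Fpow_Fr (j : ℕ) : Fpow p k n j ≫ Fr p k n = Fr p k n ≫ Fpow p k n j := by
  refine cf_ext fun i => ?_
  rw [cf_Fr, cf_Fpow, ← Category.id_comp (Fpow p k n j), cf_Fpow, ← Category.id_comp (Fr p k n), cf_Fr, ← pow_mul,
    ← pow_mul, mul_comm]

variable (p) in
/-- The endomorphism `∑_j [a j] F^j`. -/
noncomputable def Sg (n J : ℕ) (a : ℕ → k) : W p n (Spec (CommRingCat.of k)) ⟶ W p n (Spec (CommRingCat.of k)) :=
  ∏ j ∈ Finset.range J, Fpow p k n j ≫ mulC (tch p n (a j))

instance isMonHom_Sg (J : ℕ) (a : ℕ → k) : IsMonHom (Sg p n J a) :=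
  Finset.prod_induction _ (fun f : W p n K ⟶ W p n K => IsMonHom f)
    (fun f g hf hg => isMonHom_mul f g) isMonHom_one (fun j _ => inferInstance)

theorem Sg_R (h : n ≤ m) (J : ℕ) (a : ℕ → k) : Sg p m J a ≫ R p K h = R p K h ≫ Sg p n J a := by
  rw [← post_apply (R p K h), ← pre_apply (R p K h) (Sg p n J a), Sg, Sg, map_prod, map_prod]
  refine Finset.prod_congr rfl fun j _ => ?_
  rw [post_apply, pre_apply, Category.assoc, mulC_R, truncate_tch, ← Category.assoc, Fpow_R, Category.assoc]

theorem Sg_V (h : n ≤ n + 1) (J : ℕ) (a : ℕ → k) :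
    Sg p n J (fun j => a j ^ p) ≫ V p K h = V p K h ≫ Sg p (n + 1) J a := by
  rw [← post_apply (V p K h), ← pre_apply (V p K h) (Sg p (n + 1) J a), Sg, Sg, map_prod, map_prod]
  refine Finset.prod_congr rfl fun j _ => ?_
  rw [post_apply, pre_apply, Category.assoc, ← frob_tch, ← truncate_tch h, mulC_V, ← Category.assoc, Fpow_V,
    Category.assoc]

theorem Sg_Fr (J : ℕ) (a : ℕ → k) : Sg p n J a ≫ Fr p k n = Fr p k n ≫ Sg p n J (fun j => a j ^ p) := by
  rw [← post_apply (Fr p k n), ← pre_apply (Fr p k n) (Sg p n J _), Sg, Sg, map_prod, map_prod]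
  refine Finset.prod_congr rfl fun j _ => ?_
  rw [post_apply, pre_apply, Category.assoc, mulC_Fr, frob_tch, ← Category.assoc, Fpow_Fr, Category.assoc]

theorem cf_Sg_zero {T : Over K} (J : ℕ) (a : ℕ → k) (x : T ⟶ W p (n + 1) K) :
    cf (x ≫ Sg p (n + 1) J a) 0 = ∑ j ∈ Finset.range J, str T (a j) * cf x 0 ^ p ^ j := by
  induction J with
  | zero => simp [Sg, MonObj.comp_one]
  | succ J ih =>
    rw [Finset.sum_range_succ, ← ih, Sg, Finset.prod_range_succ, MonObj.comp_mul, cf_mul_zero, ← Sg,
      ← Category.assoc, cf_mulC_zero, cf_Fpow, tch, WittVector.coeff_truncate, Fin.val_zero,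
      WittVector.teichmuller_coeff_zero]

/-- **Endomorphisms of `W_1`** are given by additive polynomials. -/
theorem exists_Sg_eq (g : W p 1 K ⟶ W p 1 K) [IsMonHom g] : ∃ (J : ℕ) (a : ℕ → k), g = Sg p 1 J a := by
  classical
  let Q : Polynomial k := MvPolynomial.aeval (fun _ => Polynomial.X) (poly g 0)
  have hQ : ∀ {T : Over K} (x : T ⟶ W p 1 K), cf (x ≫ g) 0 = Q.eval₂ (str T) (cf x 0) := by
    intro T x
    rw [cf_comp_eq]
    change _ = (Polynomial.eval₂RingHom (str T) (cf x 0)).comp (MvPolynomial.aeval fun _ => Polynomial.X).toRingHom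
      (poly g 0)
    refine RingHom.congr_fun (MvPolynomial.ringHom_ext (fun r => ?_) fun i => ?_) _
    · simp [ev]
    · rw [Subsingleton.elim i 0]; simp [ev]
  let e := RingEquiv.ofBijective _ (ev_id_bijective (p := p) (n := 2) (k := k))
  let u : W p 2 K ⟶ W p 1 K := mkPt fun _ => cf (𝟙 (W p 2 K)) 0
  let v : W p 2 K ⟶ W p 1 K := mkPt fun _ => cf (𝟙 (W p 2 K)) 1
  have hadd := congrArg (fun z => cf z 0) (MonObj.mul_comp u v g)
  simp only [cf_mul_zero, hQ, u, v, cf_mkPt] at hadd
  let ψ : Γ((W p 2 K).left, ⊤) →+* Polynomial (Polynomial k) :=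
    (MvPolynomial.aeval (R := k) (![Polynomial.C Polynomial.X, Polynomial.X] : Fin 2 → Polynomial (Polynomial k))).toRingHom.comp
      e.symm.toRingHom
  have he : ∀ i, ψ (cf (𝟙 (W p 2 K)) i) = (![Polynomial.C Polynomial.X, Polynomial.X] : Fin 2 → Polynomial (Polynomial k)) i := fun i => by
    have : e.symm (cf (𝟙 (W p 2 K)) i) = MvPolynomial.X i := e.symm_apply_eq.2 (by simp [e, ev])
    simp [ψ, this]
  have hs : ψ.comp (str (W p 2 K)) = Polynomial.C.comp Polynomial.C := RingHom.ext fun r => by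
    have : e.symm (str (W p 2 K) r) = MvPolynomial.C r := e.symm_apply_eq.2 (by simp [e, ev])
    simp [ψ, this]
  have h' := congrArg ψ hadd
  rw [map_add, Polynomial.hom_eval₂, Polynomial.hom_eval₂, Polynomial.hom_eval₂, hs, map_add, he, he] at h'
  obtain ⟨J, a, hJ⟩ := exists_coeff_of_additive (p := p) Q.natDegree Q le_rfl (by simpa using h')
  refine ⟨J, a, cf_ext fun i => ?_⟩
  rw [Subsingleton.elim i 0, ← Category.id_comp g, ← Category.id_comp (Sg p 1 J a), hQ, cf_Sg_zero (n := 0), hJ,
    Polynomial.eval₂_finsetSum]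
  exact Finset.sum_congr rfl fun j _ => by simp

/-- **Decomposition** of an endomorphism of `W_{n+1}`. -/
theorem exists_decomp (φ : W p (n + 1) K ⟶ W p (n + 1) K) [IsMonHom φ] :
    ∃ (J : ℕ) (a : ℕ → k) (χ : W p n K ⟶ W p n K), IsMonHom χ ∧
      φ = Sg p (n + 1) J a * (R p K (Nat.le_succ n) ≫ χ ≫ V p K (Nat.le_succ n)) ∧
      φ ≫ R p K (Nat.le_add_left 1 n) = R p K (Nat.le_add_left 1 n) ≫ Sg p 1 J a := by
  obtain ⟨g0, hg0, hg⟩ := factor_R (Nat.le_add_left 1 n) le_rfl (φ ≫ R p K (Nat.le_add_left 1 n))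
  haveI := hg0
  obtain ⟨J, a, rfl⟩ := exists_Sg_eq g0
  haveI := isMonHom_inv (Sg p (n + 1) J a)
  haveI := isMonHom_mul φ (Sg p (n + 1) J a)⁻¹
  have h1 : (φ * (Sg p (n + 1) J a)⁻¹) ≫ R p K (Nat.le_add_left 1 n) = 1 := by
    rw [MonObj.mul_comp, GrpObj.inv_comp, Sg_R, hg, mul_inv_cancel]
  obtain ⟨w, hw⟩ := exists_comp_V (Nat.le_add_left 1 n) (Nat.le_succ n) (Nat.add_comm 1 n) _ h1
  haveI : IsMonHom w := isMonHom_of_mul _ fun T x y => cf_V_cancel (Nat.le_succ n) (by
    rw [Category.assoc, hw, MonObj.mul_comp _ _ (φ * (Sg p (n + 1) J a)⁻¹), MonObj.mul_comp _ _ (V p K _),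
      Category.assoc, Category.assoc, hw])
  obtain ⟨χ, hχ, rfl⟩ := factor_R (Nat.le_succ n) le_rfl w
  refine ⟨J, a, χ, hχ, ?_, hg.symm⟩
  rw [← Category.assoc, hw, mul_comm φ, mul_inv_cancel_left]

theorem eq_one_of_W_zero {T : Over K} (f g : T ⟶ W p 0 K) : f = g := cf_ext fun i => i.elim0

/-- **Lifting** of endomorphisms along `R`. -/
theorem exists_lift : ∀ (n : ℕ) (φ : W p n K ⟶ W p n K) [IsMonHom φ],
    ∃ ψ : W p (n + 1) K ⟶ W p (n + 1) K, IsMonHom ψ ∧
      R p K (Nat.le_succ n) ≫ φ = ψ ≫ R p K (Nat.le_succ n) := by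
  intro n
  induction n with
  | zero => exact fun φ _ => ⟨1, isMonHom_one, eq_one_of_W_zero _ _⟩
  | succ n ih =>
    intro φ _
    obtain ⟨J, a, χ, hχ, rfl, -⟩ := exists_decomp φ
    haveI := hχ
    obtain ⟨ψ, hψ, hψR⟩ := ih χ
    haveI := hψ
    refine ⟨Sg p (n + 2) J a * (R p K (Nat.le_succ (n + 1)) ≫ ψ ≫ V p K (Nat.le_succ (n + 1))),
      isMonHom_mul _ _, ?_⟩
    rw [MonObj.comp_mul, MonObj.mul_comp, Sg_R]
    congr 1
    simp only [Category.assoc, V_R_comm (Nat.le_succ n) (Nat.le_succ (n + 1)) (Nat.le_succ n)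
      (Nat.le_succ (n + 1)) (by omega)]
    rw [← Category.assoc ψ, ← hψR, Category.assoc]

/-- **Extension** of endomorphisms along `V`. -/
theorem exists_ext [IsAlgClosed k] : ∀ (n : ℕ) (ρ : W p n K ⟶ W p n K) [IsMonHom ρ],
    ∃ τ : W p (n + 1) K ⟶ W p (n + 1) K, IsMonHom τ ∧
      ρ ≫ V p K (Nat.le_succ n) = V p K (Nat.le_succ n) ≫ τ := by
  intro n
  induction n with
  | zero =>
    intro ρ _
    exact ⟨𝟙 _, inferInstance, by rw [eq_one_of_W_zero ρ (𝟙 _), Category.id_comp, Category.comp_id]⟩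
  | succ n ih =>
    intro ρ _
    obtain ⟨J, a, χ, hχ, rfl, -⟩ := exists_decomp ρ
    haveI := hχ
    obtain ⟨τ, hτ, hτV⟩ := ih χ
    haveI := hτ
    choose b hb using fun j => IsAlgClosed.exists_pow_nat_eq (a j) (Fact.out : p.Prime).pos
    obtain rfl : (fun j => b j ^ p) = a := funext hb
    refine ⟨Sg p (n + 2) J b * (R p K (Nat.le_succ (n + 1)) ≫ τ ≫ V p K (Nat.le_succ (n + 1))),
      isMonHom_mul _ _, ?_⟩
    rw [MonObj.comp_mul, MonObj.mul_comp, Sg_V]
    congr 1
    conv_rhs => rw [← Category.assoc, V_R_comm (Nat.le_succ n) (Nat.le_succ (n + 1)) (Nat.le_succ n)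
      (Nat.le_succ (n + 1)) (by omega), Category.assoc, ← Category.assoc (V p K (Nat.le_succ n)) τ, ← hτV]
    simp only [Category.assoc]

end Endo

end Groth.Agent.WittEndoLib
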